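import Cfsg.Agent.H185.NFTd
import Cfsg.Agent.H788.Der.DTwoBT

/-!
# The parabolic subgroups of `³D₄(3)` and the centralizers of the elements of order 3 (helper922, S2465)
-/

set_option autoImplicit false
set_option linter.unusedSectionVars false

namespace Cfsg.Agent.H922.TD

open CoxeterSystem Cfsg Cfsg.Lie Cfsg.Agent.ChevalleyStructure Cfsg.Agent.ChevalleyStructure.CoxeterGeom
  Cfsg.Agent.ChevalleyStructure.CoxeterGeomTypes
  Cfsg.Agent.Tits.Roots Cfsg.Agent.Tits.Core Cfsg.Agent.Nodes.Reps Cfsg.Agent.Nodes.BNOf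
  Cfsg.Agent.Nodes.RGDChev
  Cfsg.Agent.Nodes.StabComb Cfsg.Agent.Nodes.Bruhat Cfsg.Agent.Nodes.LeviDec
  Cfsg.Agent.ParSys.RootCount Cfsg.Agent.ParSys.RootExc
open Cfsg.Agent.Nodes.RGDFold hiding refl
open Cfsg.Agent.KFacts.RgdCharP Cfsg.Agent.H585.SuOwn
open Cfsg.Agent.H35.Poin hiding PJ_empty
open Cfsg.Agent.Nodes.RGDTwD4 Cfsg.Agent.ClosedExc.TwD4

theorem par_three {K : Type} [Field K] [Fintype K] (hK : Fintype.card K = 3 ^ 3)
    (u : ↥(twistedD4 K 3)) (hu : orderOf u = 3) :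
    ∃ (P : Subgroup ↥(twistedD4 K 3)) (a : ↥(twistedD4 K 3)),
      Subgroup.centralizer ({u} : Set ↥(twistedD4 K 3)) ≤ P ∧ (Nat.card P = 110539728 ∨ Nat.card P = 773778096) ∧
      (∀ t : ↥(twistedD4 K 3), (t : GL chevD4.Idx K) ∈ chevD4.diagonalSubgroup K → a * t * a⁻¹ ∈ P) := by
  classical
  have hq : IsPrimePow 3 := Nat.prime_three.isPrimePow
  have i3 : Fact (Nat.Prime 3) := ⟨Nat.prime_three⟩
  have hch : CharP K 3 := by
    obtain ⟨r, hr⟩ := CharP.exists K
    have hrp : r.Prime := CharP.char_is_prime K r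
    obtain ⟨m, -, hm⟩ := FiniteField.card K r
    rw [hK] at hm
    have : 3 = r := by
      have h1 : 3 ∣ r ^ (m : ℕ) := by rw [← hm]; exact dvd_pow_self 3 (by omega)
      exact (Nat.prime_dvd_prime_iff_eq Nat.prime_three hrp).1 (Nat.prime_three.dvd_of_dvd_pow h1)
    rw [this]; exact hr
  have hTfin : Finite ↥(twistedD4 K 3) := inferInstance
  obtain ⟨φ, hφ⟩ := D4Fixed.exists_frob hq hK
  have hle := D4Fixed.twisted_le_fix hK hφ
  let cs := CoxeterMatrix.G₂.toCoxeterSystem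
  have hW : Finite CoxeterMatrix.G₂.Group := Cfsg.Agent.Nodes.RGDFold.finite_W
    (hp := Cfsg.Agent.Nodes.RGDTwD4.hp) cs isCartan foldData
  have R := rgd cs hK hφ 3
  have c0 := card_X0 hφ hle hq.two_le hK
  have c1 := card_X1 (K := K) hφ hle
  rw [hK] at c1
  have hBT : KFacts.RgdCharP.BT cs isCartan 3 _ (X φ 3) :=
    fun K' hK' hK1 => KFacts.RgdFilt.borel_tits_of_filt
      (KFacts.RgdFiltTwAll.filt_fold cs isCartan foldData (foldGrp hφ hle) 3) (G1_eq_top cs hK hφ) hK' hK1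
  obtain ⟨m, hm⟩ := IsPGroup.iff_card.1 R.isPGroup_Upos
  have hG : GG cs isCartan (T K 3) (X φ 3) = ⊤ := KFacts.RgdRigid.GG_eq_top (G1_eq_top cs hK hφ)
  have hm12 : m = 12 := by
    have h1 := KFacts.RgdSyl.not_dvd_relIndex R
    rw [hG, Subgroup.relIndex_top_right] at h1
    have h2 := Subgroup.index_mul_card (RGD.Sup (X φ 3) (RGD.Pos cs isCartan))
    rw [hm, Cfsg.Agent.S1067.result hq hK] at h2
    have h3 : (RGD.Sup (X φ 3) (RGD.Pos cs isCartan)).index * 3 ^ m = 3 ^ 12 * 38688832 := by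
      rw [h2]; norm_num
    have h4 : ¬ 3 ∣ 38688832 := by norm_num
    have h5 : 3 ^ m ∣ 3 ^ 12 := by
      have h6 : Nat.Coprime (3 ^ m) 38688832 := Nat.Coprime.pow_left m ((Nat.Prime.coprime_iff_not_dvd i3.out).2 h4)
      exact h6.dvd_of_dvd_mul_right (Dvd.intro_left _ h3)
    have h6 : 3 ^ 12 ∣ 3 ^ m := by
      have h7 : Nat.Coprime (3 ^ 12) (RGD.Sup (X φ 3) (RGD.Pos cs isCartan)).index :=
        Nat.Coprime.pow_left 12 ((Nat.Prime.coprime_iff_not_dvd i3.out).2 h1)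
      exact h7.dvd_of_dvd_mul_left (Dvd.intro _ h3.symm)
    exact Nat.pow_right_injective (le_refl 3 |>.trans' (by norm_num)) (Nat.dvd_antisymm h5 h6)
  have hT : Nat.card ↥(T K 3) = 52 := by
    have h1 := Cfsg.Agent.S1106.result hq hK
    have h2 : Nat.card ↥(T K 3) = (3 - 1) ^ 2 * (3 ^ 2 + 3 + 1) := by
      rw [← h1]
      exact Nat.card_congr (Subgroup.subgroupOfEquivOfLe inf_le_right).toEquiv
    exact h2.trans (by norm_num)
  have hPJ : ∀ j : Fin 2, Nat.card ↥(PJ cs isCartan (T K 3) (X φ 3) {j}) =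
      (1 + Nat.card (X φ 3 (sr j))) * (3 ^ 12 * 52) := by
    intro j
    rw [card_PJ_path R (J := {j}) (c := fun _ => j) (m := 1) (y := Nat.card (X φ 3 (sr j)))
      ⟨fun t ht => rfl, fun t ht => by omega, fun s t h1 h2 => by omega, fun i hi h1 => by
        exact absurd (Set.mem_singleton_iff.1 hi).symm (h1 0 (by norm_num)), fun s hs t ht _ => by omega⟩
      (fun t _ => rfl)]
    have h1 : ({j} : Set (Fin 2)) \ {i | ∃ t < 1, (fun _ : ℕ => j) t = i} = ∅ := by
      ext i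
      simp only [Set.mem_sdiff, Set.mem_singleton_iff, Set.mem_ofPred_eq, Set.mem_empty_iff_false, iff_false,
        not_and, not_not]
      rintro rfl
      exact ⟨0, by norm_num, rfl⟩
    rw [h1, Cfsg.Agent.H35.Poin.PJ_empty, card_B' R, hm, hT, hm12]
    simp [Finset.sum_range_succ]
  obtain ⟨g, J, hJ, hKV, hNP⟩ := hBT (Subgroup.zpowers u)
    (IsPGroup.of_card (n := 1) (by rw [Nat.card_zpowers, hu, pow_one])) (by
      intro h
      rw [Subgroup.zpowers_eq_bot] at h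
      rw [h, orderOf_one] at hu
      norm_num at hu)
  obtain ⟨i, hi⟩ := (Set.ne_univ_iff_exists_notMem _).1 hJ
  have hJi : J ⊆ {i}ᶜ := fun j hj => by
    rw [Set.mem_compl_iff, Set.mem_singleton_iff]
    rintro rfl
    exact hi hj
  have h1 : Subgroup.normalizer (Subgroup.zpowers u : Set ↥(twistedD4 K 3)) ≤
      cj g (PJ cs isCartan (T K 3) (X φ 3) {i}ᶜ) := hNP.trans (cj_mono g (PJ_mono hJi))
  have hcompl : ∃ j : Fin 2, ({i}ᶜ : Set (Fin 2)) = {j} := by
    fin_cases i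
    · refine ⟨1, ?_⟩
      ext k
      fin_cases k <;> simp
    · refine ⟨0, ?_⟩
      ext k
      fin_cases k <;> simp
  obtain ⟨j, hj⟩ := hcompl
  rw [hj] at h1
  refine ⟨cj g (PJ cs isCartan (T K 3) (X φ 3) {j}), g, ?_, ?_, ?_⟩
  · refine le_trans ?_ h1
    rw [← Subgroup.centralizer_closure, ← Subgroup.zpowers_eq_closure]
    exact Subgroup.centralizer_le_normalizer _
  · rw [Cfsg.Agent.Nodes.CardSup.card_cj, hPJ j]
    fin_cases j
    · left
      show (1 + Nat.card (X φ 3 (sr 0))) * _ = _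
      rw [c0]
      norm_num
    · right
      show (1 + Nat.card (X φ 3 (sr 1))) * _ = _
      rw [c1]
      norm_num
  · intro t ht
    have h2 : t ∈ T K 3 := Subgroup.mem_subgroupOf.2 ⟨ht, t.2⟩
    have h3 : t ∈ PJ cs isCartan (T K 3) (X φ 3) {j} := (T_le_LJ.trans LJ_le_PJ) h2
    rw [mem_cj]
    rwa [show g⁻¹ * (g * t * g⁻¹) * g = t by group]

end Cfsg.Agent.H922.TD
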