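import Cfsg.Agent.H922.TD.Assemble
import Cfsg.Agent.H922.TD.ParThree

/-!
# `³D₄(3)`: every element is a product of two elements of order prime to 6 (helper922, S2465)
-/

set_option autoImplicit false

open Cfsg Cfsg.Lie

namespace Cfsg.Agent.H922.TD

/-- **`³D₄(3)`.** -/
theorem six_td4_three {K : Type} [Field K] [Fintype K] (hK : Fintype.card K = 3 ^ 3) :
    Cfsg.Agent.H78.Pw.All 6 ↥(twistedD4 K 3) :=
  six_of_par hK (par_three hK)

end Cfsg.Agent.H922.TD
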